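import Cfsg.Agent.Lib.Fusion.ThompsonTransfer
import Cfsg.Agent.Lib.Involution.TwoGroupLifts

/-!
# The involutions of a simple group with Sylow two-subgroups of order eight are conjugate
-/

set_option autoImplicit false

open scoped Classical

namespace CfsgLib.Sporadic.J1Order175560

open Subgroup CfsgLib.Involution.TwoGroupLifts

/-- The lines of the plane of order two cannot be two-coloured. -/
theorem fano : ∀ a b c ab ac bc abc : Bool,
    (a = b ∧ a = ab) ∨ (a = c ∧ a = ac) ∨ (a = bc ∧ a = abc) ∨ (b = c ∧ b = bc) ∨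
      (b = ac ∧ b = abc) ∨ (c = ab ∧ c = abc) ∨ (ab = ac ∧ ab = bc) := by decide

variable {G : Type*} [Group G] [Finite G]

theorem relIndex_two {P : Subgroup G} (hP : Nat.card P = 8) {M : Subgroup G} (hM : M ≤ P)
    (hM4 : Nat.card M = 4) : M.relIndex P = 2 := by
  have h := (M.subgroupOf P).index_mul_card
  rw [Nat.card_congr (subgroupOfEquivOfLe hM).toEquiv, hM4, hP] at h
  show (M.subgroupOf P).index = 2
  omega

theorem card_fourGroup {a b : G} (ha : a * a = 1) (hb : b * b = 1) (hab : a * b = b * a)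
    (ha1 : a ≠ 1) (hb1 : b ≠ 1) (hne : a ≠ b) : Nat.card (fourGroup a b ha hb hab) = 4 := by
  have hab1 : a * b ≠ 1 := fun h => hne (mul_right_cancel (h.trans hb.symm))
  have haba : a * b ≠ a := fun h => hb1 (mul_left_cancel (h.trans (mul_one a).symm))
  have habb : a * b ≠ b := fun h => ha1 (mul_right_cancel (h.trans (one_mul b).symm))
  rw [← (show ({1, a, b, a * b} : Finset G).card = 4 by
    simp [ha1.symm, hb1.symm, hne, hab1.symm, haba.symm, habb.symm]), ← Nat.card_eq_finsetCard]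
  exact Nat.card_congr (Equiv.subtypeEquivRight fun g => by simp [mem_fourGroup])

theorem mem_zpowers_four {a x : G} (ha : orderOf a = 4) (hx : x ∈ zpowers a) (hx2 : orderOf x = 2) :
    x = a ^ 2 := by
  obtain ⟨k, rfl⟩ := mem_powers_iff_mem_zpowers.2 hx
  change orderOf (a ^ k) = 2 at hx2
  show a ^ k = a ^ 2
  rw [← pow_mod_orderOf, ha] at hx2 ⊢
  rcases (show k % 4 = 0 ∨ k % 4 = 1 ∨ k % 4 = 2 ∨ k % 4 = 3 by omega) with h | h | h | h <;>
    rw [h] at hx2 ⊢
  · rw [pow_zero, orderOf_one] at hx2; omega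
  · rw [pow_one, ha] at hx2; omega
  · rw [orderOf_pow, ha] at hx2; norm_num at hx2

theorem isConj_of_involutions [IsSimpleGroup G] (hG : ¬ IsMulCommutative G) (T : Sylow 2 G)
    (hT : Nat.card (T : Subgroup G) = 8) {s t : G} (hs : orderOf s = 2) (ht : orderOf t = 2) :
    IsConj s t := by
  haveI : Fact (Nat.Prime 2) := ⟨Nat.prime_two⟩
  haveI := Fintype.ofFinite G
  have hno : ¬ ∃ M : Subgroup G, M.Normal ∧ M.index = 2 := by
    rintro ⟨M, hM, hi⟩
    rcases hM.eq_bot_or_eq_top with h | h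
    · rw [h, index_bot] at hi
      haveI := isCyclic_of_prime_card hi
      exact hG IsCyclic.isMulCommutative
    · rw [h, index_top] at hi; omega
  have key : ∀ z : G, orderOf z = 2 → ∃ c ∈ (T : Subgroup G), orderOf c = 2 ∧ IsConj z c := by
    intro z hz
    obtain ⟨Q, hQ⟩ := (IsPGroup.of_card (p := 2) (G := zpowers z) (n := 1)
      (by rw [Nat.card_zpowers, hz, pow_one])).exists_le_sylow
    obtain ⟨g, hg⟩ := MulAction.exists_smul_eq G Q T
    refine ⟨g * z * g⁻¹, ?_, by rw [← MulAut.conj_apply, MulEquiv.orderOf_eq, hz], isConj_iff.2 ⟨g, rfl⟩⟩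
    rw [← hg, Sylow.coe_subgroup_smul]
    exact Subgroup.smul_mem_pointwise_smul z (MulAut.conj g) _ (hQ (mem_zpowers z))
  -- an involution outside a subgroup of index two is conjugate into it
  have out : ∀ M : Subgroup G, M ≤ (T : Subgroup G) → Nat.card M = 4 → ∀ b ∈ (T : Subgroup G),
      orderOf b = 2 → b ∉ M → ∃ m ∈ M, IsConj b m := by
    intro M hM hM4 b hb hb2 hbM
    rcases CfsgLib.Fusion.ThompsonTransfer.thompson_transfer T M hM (relIndex_two hT hM hM4) b
      (by rw [← hb2, pow_orderOf_eq_one]) hb hbM with ⟨N, hN, hi, -⟩ | ⟨g, hg⟩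
    · exact absurd ⟨N, hN, hi⟩ hno
    · exact ⟨_, hg, isConj_iff.2 ⟨g, rfl⟩⟩
  obtain ⟨s', hs'T, hs', hss⟩ := key s hs
  obtain ⟨t', ht'T, ht', htt⟩ := key t ht
  refine hss.trans (IsConj.trans ?_ htt.symm)
  by_cases h4 : ∃ a ∈ (T : Subgroup G), orderOf a = 4
  · obtain ⟨a, haT, ha⟩ := h4
    have all : ∀ b ∈ (T : Subgroup G), orderOf b = 2 → IsConj b (a ^ 2) := by
      intro b hb hb2
      by_cases hbM : b ∈ zpowers a
      · rw [mem_zpowers_four ha hbM hb2]
      · obtain ⟨m, hm, hbm⟩ := out (zpowers a) (zpowers_le.2 haT) (by rw [Nat.card_zpowers, ha]) b hb hb2 hbM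
        obtain ⟨g, hg⟩ := isConj_iff.1 hbm
        have hm2 : orderOf m = 2 := by rw [← hg, ← MulAut.conj_apply, MulEquiv.orderOf_eq, hb2]
        rwa [mem_zpowers_four ha hm hm2] at hbm
    exact (all s' hs'T hs').trans (all t' ht'T ht').symm
  -- elementary case
  have hsq : ∀ x ∈ (T : Subgroup G), x * x = 1 := by
    intro x hx
    obtain ⟨i, hi, hxi⟩ := (Nat.dvd_prime_pow Nat.prime_two).1
      (show orderOf x ∣ 2 ^ 3 from (orderOf_dvd_natCard (T : Subgroup G) hx).trans (dvd_of_eq hT))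
    rcases (show i = 0 ∨ i = 1 ∨ i = 2 ∨ i = 3 by omega) with rfl | rfl | rfl | rfl
    · rw [orderOf_eq_one_iff.1 hxi, one_mul]
    · rw [← pow_two]; exact (show (2 : ℕ) = 2 ^ 1 by norm_num) ▸ hxi ▸ pow_orderOf_eq_one x
    · exact absurd ⟨x, hx, hxi⟩ h4
    · refine absurd ⟨x ^ 2, pow_mem hx 2, ?_⟩ h4
      rw [orderOf_pow, hxi]; norm_num
  have hcomm : ∀ x ∈ (T : Subgroup G), ∀ y ∈ (T : Subgroup G), x * y = y * x := by
    intro x hx y hy
    have h1 := hsq _ (mul_mem hx hy)
    calc x * y = x * (x * y * (x * y)) * y := by rw [h1, mul_one]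
      _ = (x * x) * (y * x) * (y * y) := by group
      _ = y * x := by rw [hsq x hx, hsq y hy, one_mul, mul_one]
  have ord2 : ∀ x ∈ (T : Subgroup G), x ≠ 1 → orderOf x = 2 := fun x hx h1 =>
    orderOf_eq_prime (by rw [pow_two]; exact hsq x hx) h1
  by_contra hst
  have line : ∀ x y : G, x ∈ (T : Subgroup G) → y ∈ (T : Subgroup G) → x ≠ 1 → y ≠ 1 → x ≠ y →
      decide (IsConj x s') = decide (IsConj y s') → decide (IsConj x s') = decide (IsConj (x * y) s') →
      False := by
    intro x y hx hy hx1 hy1 hxy h1 h2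
    rw [decide_eq_decide] at h1 h2
    set M := fourGroup x y (hsq x hx) (hsq y hy) (hcomm x hx y hy)
    have hMT : M ≤ (T : Subgroup G) := by
      intro g hg
      rcases mem_fourGroup.1 hg with rfl | rfl | rfl | rfl
      · exact one_mem _
      · exact hx
      · exact hy
      · exact mul_mem hx hy
    have hM4 : Nat.card M = 4 := card_fourGroup _ _ _ hx1 hy1 hxy
    have hM : ∀ m ∈ M, m ≠ 1 → (IsConj m s' ↔ IsConj x s') := by
      intro m hm hm1
      rcases mem_fourGroup.1 hm with rfl | rfl | rfl | rfl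
      · exact absurd rfl hm1
      · rfl
      · exact h1.symm
      · exact h2.symm
    have meets : ∀ b ∈ (T : Subgroup G), orderOf b = 2 → ∃ m ∈ M, m ≠ 1 ∧ IsConj b m := by
      intro b hb hb2
      have hb1 : b ≠ 1 := fun e => by rw [e, orderOf_one] at hb2; omega
      by_cases hbM : b ∈ M
      · exact ⟨b, hbM, hb1, IsConj.refl b⟩
      · obtain ⟨m, hm, hbm⟩ := out M hMT hM4 b hb hb2 hbM
        obtain ⟨g, hg⟩ := isConj_iff.1 hbm
        exact ⟨m, hm, by rw [← hg]; exact fun e => hb1 (conj_eq_one_iff.1 e), hbm⟩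
    obtain ⟨m, hm, hm1, hsm⟩ := meets s' hs'T hs'
    obtain ⟨n, hn, hn1, htn⟩ := meets t' ht'T ht'
    exact hst ((htn.trans ((hM n hn hn1).2 ((hM m hm hm1).1 hsm.symm))).symm)
  have hTf : Fintype.card (T : Subgroup G) = 8 := by rw [← Nat.card_eq_fintype_card, hT]
  obtain ⟨a, haT, ha1⟩ : ∃ a ∈ (T : Subgroup G), a ≠ 1 := ⟨s', hs'T, fun e => by
    rw [e, orderOf_one] at hs'; omega⟩
  obtain ⟨⟨b, hbT⟩, hb⟩ : ∃ b : (T : Subgroup G), (b : G) ∉ ({1, a} : Finset G) := by
    by_contra h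
    push Not at h
    have := Fintype.card_le_of_injective (fun b : (T : Subgroup G) => (⟨b.1, h b⟩ : ({1, a} : Finset G)))
      fun b c e => Subtype.ext (congrArg (fun q : ({1, a} : Finset G) => q.1) e)
    rw [hTf, Fintype.card_coe] at this
    have := Finset.card_le_two (a := (1 : G)) (b := a)
    omega
  simp only [Finset.mem_insert, Finset.mem_singleton, not_or] at hb
  obtain ⟨⟨c, hcT⟩, hc⟩ : ∃ c : (T : Subgroup G),
      (c : G) ∉ fourGroup a b (hsq a haT) (hsq b hbT) (hcomm a haT b hbT) := by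
    by_contra h
    push Not at h
    have := Nat.card_le_card_of_injective (fun c : (T : Subgroup G) =>
      (⟨c.1, h c⟩ : fourGroup a b (hsq a haT) (hsq b hbT) (hcomm a haT b hbT)))
      fun c d e => Subtype.ext (congrArg (fun q : fourGroup a b _ _ _ => q.1) e)
    rw [hT, card_fourGroup _ _ _ ha1 hb.1 (Ne.symm hb.2)] at this
    omega
  simp only [mem_fourGroup, not_or] at hc
  obtain ⟨hc1, hca, hcb, hcab⟩ := hc
  have hb1 := hb.1
  have hba := hb.2
  have ia := hsq a haT
  have ib := hsq b hbT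
  have ic := hsq c hcT
  have cab := hcomm a haT b hbT
  have cac := hcomm a haT c hcT
  have cbc := hcomm b hbT c hcT
  have ne1 : ∀ {x y : G}, y * y = 1 → x ≠ y → x * y ≠ 1 := fun hy hne h =>
    hne (mul_right_cancel (h.trans hy.symm))
  have r1 : a * (b * c) = a * b * c := (mul_assoc _ _ _).symm
  have r2 : b * (a * c) = a * b * c := by rw [← mul_assoc, ← cab]
  have r3 : c * (a * b) = a * b * c := (hcomm c hcT _ (mul_mem haT hbT))
  have r4 : a * b * (a * c) = b * c := by
    rw [cab, mul_assoc, ← mul_assoc a a c, ia, one_mul]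
  rcases fano (decide (IsConj a s')) (decide (IsConj b s')) (decide (IsConj c s'))
      (decide (IsConj (a * b) s')) (decide (IsConj (a * c) s')) (decide (IsConj (b * c) s'))
      (decide (IsConj (a * b * c) s')) with h | h | h | h | h | h | h
  · exact line a b haT hbT ha1 hb1 (Ne.symm hba) h.1 h.2
  · exact line a c haT hcT ha1 hc1 (Ne.symm hca) h.1 h.2
  · refine line a (b * c) haT (mul_mem hbT hcT) ha1 (ne1 ic (Ne.symm hcb)) ?_ h.1 (by rw [r1]; exact h.2)
    intro e
    exact hcab (by rw [e, cbc, mul_assoc, ib, mul_one])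
  · exact line b c hbT hcT hb1 hc1 (Ne.symm hcb) h.1 h.2
  · refine line b (a * c) hbT (mul_mem haT hcT) hb1 (ne1 ic (Ne.symm hca)) ?_ h.1 (by rw [r2]; exact h.2)
    intro e
    exact hcab (by rw [e, ← mul_assoc, ia, one_mul])
  · refine line c (a * b) hcT (mul_mem haT hbT) hc1 (ne1 ib (Ne.symm hba)) hcab h.1 ?_
    rw [r3]; exact h.2
  · refine line (a * b) (a * c) (mul_mem haT hbT) (mul_mem haT hcT) (ne1 ib (Ne.symm hba))
      (ne1 ic (Ne.symm hca)) ?_ h.1 (by rw [r4]; exact h.2)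
    exact fun e => hcb (mul_left_cancel e).symm

end CfsgLib.Sporadic.J1Order175560
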