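import Cfsg.Agent.Lib.Sporadic.J1Order175560.Search
import Cfsg.Agent.Lib.Sporadic.J1Order175560.Fusion
import Cfsg.Agent.Lib.SmallGroups.Order168Klein

/-!
# The entries of a simple group of order `175560`
-/

set_option autoImplicit false

open scoped Classical Pointwise

namespace CfsgLib.Sporadic.J1Order175560

open Subgroup CfsgLib.Involution.Order175560 CfsgLib.SmallGroups.SimpleTools CfsgLib.SmallGroups.LocalTools

variable {G : Type*} [Group G]

/-- The number of elements of order `q`. -/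
noncomputable def cnt (H : Type*) [Group H] (q : ℕ) : ℕ := Nat.card {h : H // orderOf h = q}

/-- Commuting pairs of elements of given orders. -/
abbrev Pairs (G : Type*) [Group G] (r q : ℕ) :=
  {p : G × G // orderOf p.1 = r ∧ orderOf p.2 = q ∧ Commute p.1 p.2}

theorem cnt_congr {H K : Type*} [Group H] [Group K] (e : H ≃* K) (q : ℕ) : cnt H q = cnt K q :=
  Nat.card_congr (e.toEquiv.subtypeEquiv fun h => by
    show orderOf h = q ↔ orderOf (e h) = q
    rw [MulEquiv.orderOf_eq])

theorem card_pairs_comm (r q : ℕ) : Nat.card (Pairs G r q) = Nat.card (Pairs G q r) :=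
  Nat.card_congr ((Equiv.prodComm G G).subtypeEquiv fun p =>
    ⟨fun h => ⟨h.2.1, h.1, h.2.2.symm⟩, fun h => ⟨h.2.1, h.1, h.2.2.symm⟩⟩)

variable [Finite G]

theorem card_pairs (r q A : ℕ)
    (h : ∀ x : G, orderOf x = r → cnt (centralizer ({x} : Set G)) q = A) :
    Nat.card (Pairs G r q) = cnt G r * A := by
  haveI := Fintype.ofFinite G
  let f : Pairs G r q ≃
      Σ x : {x : G // orderOf x = r}, {c : centralizer ({x.1} : Set G) // orderOf c = q} :=
    { toFun := fun p => ⟨⟨p.1.1, p.2.1⟩, ⟨p.1.2, mem_centralizer_singleton_iff.2 p.2.2.2.eq.symm⟩, by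
        rw [← Subgroup.orderOf_coe]; exact p.2.2.1⟩
      invFun := fun s => ⟨(s.1.1, (s.2.1 : G)), s.1.2, (by rw [Subgroup.orderOf_coe]; exact s.2.2),
        (mem_centralizer_singleton_iff.1 s.2.1.2).symm⟩
      left_inv := fun p => rfl
      right_inv := fun s => rfl }
  rw [Nat.card_congr f, Nat.card_sigma, Finset.sum_congr rfl (fun x _ => h x.1 x.2), Finset.sum_const,
    Finset.card_univ, smul_eq_mul, cnt, Nat.card_eq_fintype_card]

theorem cent_eq_of_zpowers {a b : G} (h : zpowers a = zpowers b) :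
    centralizer ({a} : Set G) = centralizer ({b} : Set G) := by
  have key : ∀ {a b : G}, a ∈ zpowers b → centralizer ({b} : Set G) ≤ centralizer ({a} : Set G) := by
    intro a b ha c hc
    obtain ⟨i, rfl⟩ := mem_zpowers_iff.1 ha
    exact mem_centralizer_singleton_iff.2
      (Commute.zpow_right (mem_centralizer_singleton_iff.1 hc : Commute c b) i).eq
  exact le_antisymm (key (h ▸ mem_zpowers b)) (key (h ▸ mem_zpowers a))

theorem centralizer_conj (g x : G) :
    Nonempty (centralizer ({x} : Set G) ≃* centralizer ({g * x * g⁻¹} : Set G)) := by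
  refine ⟨((centralizer ({x} : Set G)).equivMapOfInjective (MulAut.conj g).toMonoidHom
    (MulAut.conj g).injective).trans (MulEquiv.subgroupCongr ?_)⟩
  ext c
  rw [mem_map, mem_centralizer_singleton_iff]
  constructor
  · rintro ⟨d, hd, rfl⟩
    show g * d * g⁻¹ * (g * x * g⁻¹) = g * x * g⁻¹ * (g * d * g⁻¹)
    calc g * d * g⁻¹ * (g * x * g⁻¹) = g * (d * x) * g⁻¹ := by group
      _ = g * (x * d) * g⁻¹ := by rw [mem_centralizer_singleton_iff.1 hd]
      _ = _ := by group
  · intro hc
    refine ⟨g⁻¹ * c * g, mem_centralizer_singleton_iff.2 ?_, ?_⟩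
    · calc g⁻¹ * c * g * x = g⁻¹ * (c * (g * x * g⁻¹)) * g := by group
        _ = g⁻¹ * (g * x * g⁻¹ * c) * g := by rw [hc]
        _ = _ := by group
    · show g * (g⁻¹ * c * g) * g⁻¹ = c
      group

/-- The facts about the centralizer of an element of order `r`. -/
structure Data (G : Type*) [Group G] (x : Ent) : Prop where
  prime : x.1.Prime
  sylow : ∀ P : Sylow x.1 G, Nat.card (P : Subgroup G) = x.1
  count : cnt G x.1 = x.2.1 * (x.1 - 1)
  card_cent : ∀ z : G, orderOf z = x.1 → Nat.card (centralizer ({z} : Set G)) = x.1 * x.2.2.1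
  invol : ∀ z : G, orderOf z = x.1 → cnt (centralizer ({z} : Set G)) 2 = x.2.2.2
  not_dvd : ¬ x.1 ∣ x.2.2.1
  valid : Valid G (proj x)

/-- The elements of order `q` in a group of order dividing `175560`. -/
theorem cnt_eq {H : Type*} [Group H] [Finite H] (hH : Nat.card H ∣ 175560) {q : ℕ} [Fact q.Prime]
    (hq : q ≠ 2) (hd : q ∣ Nat.card H) :
    ∃ s, cnt H q = s * (q - 1) ∧ s % q = 1 ∧ s * q ∣ Nat.card H ∧ s ∈ divs := by
  have hs := fun P => sylow_card_of_dvd hH hq hd P
  obtain ⟨P⟩ : Nonempty (Sylow q H) := inferInstance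
  have hmul := card_normalizer_mul P
  have hqN : q ∣ Nat.card (normalizer ((P : Subgroup H) : Set H)) :=
    (hs P).symm.dvd.trans (Subgroup.card_dvd_of_le le_normalizer)
  refine ⟨Nat.card (Sylow q H), CfsgLib.SmallGroups.Order168.card_orderOf_prime q hs, ?_, ?_, ?_⟩
  · rw [card_sylow_modEq_one q H, Nat.mod_eq_of_lt (Fact.out : q.Prime).one_lt]
  · exact (mul_dvd_mul_left _ hqN).trans (dvd_of_eq hmul)
  · exact mem_divs ((Dvd.intro _ hmul).trans hH)

theorem odd_involutions {H : Type*} [Group H] [Finite H] (h : 2 ∣ Nat.card H) : Odd (cnt H 2) := by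
  haveI := Fintype.ofFinite H
  have hs : (∑ g ∈ Finset.univ.filter (fun g : H => g⁻¹ ≠ g), (1 : ZMod 2)) = 0 :=
    Finset.sum_involution (fun g _ => g⁻¹) (fun _ _ => rfl)
      (fun g hg _ => (Finset.mem_filter.1 hg).2)
      (fun g hg => by
        simp only [Finset.mem_filter, Finset.mem_univ, true_and, inv_inv, ne_eq] at hg ⊢
        exact fun e => hg e.symm)
      (fun g _ => inv_inv g)
  have h1 := Finset.card_filter_add_card_filter_not (s := (Finset.univ : Finset H)) (fun g : H => g⁻¹ ≠ g)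
  have h2 : (Finset.univ.filter fun g : H => ¬ g⁻¹ ≠ g).card = cnt H 2 + 1 := by
    rw [show (Finset.univ.filter fun g : H => ¬ g⁻¹ ≠ g) = insert 1 (Finset.univ.filter fun g : H => orderOf g = 2) by
      ext g
      simp only [Finset.mem_filter, Finset.mem_univ, true_and, not_not, Finset.mem_insert]
      constructor
      · intro hg
        refine or_iff_not_imp_left.2 fun h1 => orderOf_eq_prime ?_ h1
        rw [pow_two]; nth_rewrite 1 [← hg]; exact inv_mul_cancel g
      · rintro (rfl | hg)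
        · exact inv_one
        · refine inv_eq_of_mul_eq_one_right ?_
          rw [← pow_two, ← hg, pow_orderOf_eq_one],
      Finset.card_insert_of_notMem (by simp), cnt, Nat.card_eq_fintype_card, Fintype.card_subtype]
  rw [Finset.sum_const, nsmul_eq_mul, mul_one, ZMod.natCast_eq_zero_iff] at hs
  rw [Finset.card_univ, ← Nat.card_eq_fintype_card] at h1
  obtain ⟨a, ha⟩ := hs
  obtain ⟨b, hb⟩ := h
  rw [Nat.odd_iff]
  omega

variable [IsSimpleGroup G] (hG : ¬ IsMulCommutative G) (hcard : Nat.card G = 175560)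
  {t : G} (hconj : ∀ s : G, orderOf s = 2 → IsConj s t) (ht : orderOf t = 2)
include hG hcard hconj ht

omit hG in
theorem cnt_two : cnt G 2 * Nat.card (centralizer ({t} : Set G)) = 175560 := by
  haveI := Fintype.ofFinite G
  let f : G → {s : G // orderOf s = 2} := fun g => ⟨g * t * g⁻¹, by
    rw [← MulAut.conj_apply, MulEquiv.orderOf_eq, ht]⟩
  have hfib : ∀ s, Nat.card {g : G // f g = s} = Nat.card (centralizer ({t} : Set G)) := by
    intro s
    obtain ⟨g₀, hg₀⟩ := isConj_iff.1 (hconj s.1 s.2).symm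
    refine Nat.card_congr
      { toFun := fun g => ⟨g₀⁻¹ * g.1, mem_centralizer_singleton_iff.2 ?_⟩
        invFun := fun c => ⟨g₀ * c.1, Subtype.ext ?_⟩
        left_inv := fun g => Subtype.ext (mul_inv_cancel_left _ _)
        right_inv := fun c => Subtype.ext (inv_mul_cancel_left _ _) }
    · have h : g.1 * t * g.1⁻¹ = g₀ * t * g₀⁻¹ := by rw [hg₀]; exact congrArg Subtype.val g.2
      calc g₀⁻¹ * g.1 * t = g₀⁻¹ * (g.1 * t * g.1⁻¹) * g.1 := by group
        _ = g₀⁻¹ * (g₀ * t * g₀⁻¹) * g.1 := by rw [h]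
        _ = t * (g₀⁻¹ * g.1) := by group
    · show g₀ * c.1 * t * (g₀ * c.1)⁻¹ = s.1
      rw [← hg₀]
      calc g₀ * c.1 * t * (g₀ * c.1)⁻¹ = g₀ * (c.1 * t) * c.1⁻¹ * g₀⁻¹ := by group
        _ = g₀ * (t * c.1) * c.1⁻¹ * g₀⁻¹ := by rw [mem_centralizer_singleton_iff.1 c.2]
        _ = _ := by group
  rw [← hcard, ← Nat.card_congr (Equiv.sigmaFiberEquiv f), Nat.card_sigma,
    Finset.sum_congr rfl (fun s _ => hfib s), Finset.sum_const, Finset.card_univ, smul_eq_mul, cnt,
    Nat.card_eq_fintype_card]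

theorem exists_data {r : ℕ} [Fact r.Prime] (hr2 : r ≠ 2) (hr : r ∣ 175560) :
    ∃ x ∈ cand (Nat.card (centralizer ({t} : Set G))) r, x.1 = r ∧ Data G x := by
  have hr' : r.Prime := Fact.out
  have hd : Nat.card G ∣ 175560 := dvd_of_eq hcard
  have hrG : r ∣ Nat.card G := hcard ▸ hr
  have hs := fun P => sylow_card_of_dvd hd hr2 hrG P
  obtain ⟨P⟩ : Nonempty (Sylow r G) := inferInstance
  have hP := hs P
  obtain ⟨e, k, he1, hed, hN, hC⟩ := exists_e hG P hP
  set n := Nat.card (Sylow r G) with hn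
  set c := Nat.card (centralizer ({t} : Set G)) with hcdef
  have hmul := card_normalizer_mul P
  rw [hN, ← hn, hcard] at hmul
  have hk : ¬ r ∣ k := by
    rintro ⟨u, rfl⟩
    have h2 : r ^ 2 ∣ Nat.card G := by rw [hcard, ← hmul]; exact ⟨n * (e * u), by ring⟩
    have h3 := (hr'.pow_dvd_iff_le_factorization Nat.card_pos.ne').1 h2
    have h1 := P.card_eq_multiplicity
    rw [hP] at h1
    have h4 : r ^ 1 = r ^ (Nat.card G).factorization r := by rw [pow_one]; exact h1
    have := Nat.pow_right_injective hr'.two_le h4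
    omega
  -- any element of order `r` generates a Sylow subgroup
  have gen : ∀ z : G, orderOf z = r → ∃ Q : Sylow r G, zpowers z = Q := by
    intro z hz
    obtain ⟨Q, hQ⟩ := (IsPGroup.of_card (n := 1) (by rw [Nat.card_zpowers, hz, pow_one]) :
      IsPGroup r (zpowers z)).exists_le_sylow
    exact ⟨Q, eq_of_le_of_card_ge hQ (by rw [hs Q, Nat.card_zpowers, hz])⟩
  have centP : ∀ z : G, orderOf z = r → ∀ Q : Sylow r G, zpowers z = Q →
      centralizer ({z} : Set G) = centralizer ((Q : Subgroup G) : Set G) := by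
    intro z _ Q hQ
    refine le_antisymm (fun w hw => mem_centralizer_iff.2 fun y hy => ?_) fun w hw => ?_
    · rw [← hQ] at hy
      obtain ⟨i, rfl⟩ := hy
      exact ((Commute.zpow_right (mem_centralizer_singleton_iff.1 hw : Commute w z) i).eq).symm
    · exact mem_centralizer_singleton_iff.2
        (mem_centralizer_iff.1 hw z (hQ ▸ mem_zpowers z)).symm
  have cardC : ∀ z : G, orderOf z = r → Nat.card (centralizer ({z} : Set G)) = r * k := by
    intro z hz
    obtain ⟨Q, hQ⟩ := gen z hz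
    rw [centP z hz Q hQ, card_centralizer_eq P Q, hC]
  obtain ⟨z₀, hz₀⟩ := exists_prime_orderOf_dvd_card' (G := G) r hrG
  obtain ⟨I, hI⟩ : ∃ I, cnt (centralizer ({z₀} : Set G)) 2 = I := ⟨_, rfl⟩
  have inv : ∀ z : G, orderOf z = r → cnt (centralizer ({z} : Set G)) 2 = I := by
    intro z hz
    obtain ⟨Q, hQ⟩ := gen z hz
    obtain ⟨Q₀, hQ₀⟩ := gen z₀ hz₀
    obtain ⟨g, hg⟩ := MulAction.exists_smul_eq G Q₀ Q
    have hz' : zpowers z = zpowers (g * z₀ * g⁻¹) := by
      rw [hQ, ← hg, Sylow.coe_subgroup_smul]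
      show MulAut.conj g • (Q₀ : Subgroup G) = _
      rw [← hQ₀]
      exact MonoidHom.map_zpowers (MulAut.conj g).toMonoidHom z₀
    obtain ⟨eq⟩ := centralizer_conj g z₀
    rw [cent_eq_of_zpowers hz', ← cnt_congr eq, hI]
  have hcount : cnt G r = n * (r - 1) := CfsgLib.SmallGroups.Order168.card_orderOf_prime r hs
  have hn0 : n ≠ 0 := fun h => by rw [h, zero_mul] at hmul; omega
  -- the pairs of an element of order `r` and an involution
  have hpairs : n * (r - 1) * I = cnt G 2 * cnt (centralizer ({t} : Set G)) r := by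
    rw [← hcount, ← card_pairs r 2 I inv, card_pairs_comm,
      card_pairs 2 r (cnt (centralizer ({t} : Set G)) r) fun s hs2 => ?_]
    obtain ⟨g, hg⟩ := isConj_iff.1 (hconj s hs2)
    obtain ⟨eq⟩ := centralizer_conj g s
    rw [hg] at eq
    exact cnt_congr eq r
  have hN2 := cnt_two hcard hconj ht
  rw [← hcdef] at hN2
  have hc0 : 0 < c := Nat.card_pos
  have hN' : 175560 / c = cnt G 2 := by rw [← hN2, Nat.mul_div_cancel _ hc0]
  have hN0 : cnt G 2 ≠ 0 := fun h => by rw [h, zero_mul] at hN2; omega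
  have hcd : c ∣ 175560 := ⟨cnt G 2, by rw [← hN2, mul_comm]⟩
  have hI_pos : 2 ∣ k → I ≠ 0 := by
    intro h2
    obtain ⟨u, hu⟩ := exists_prime_orderOf_dvd_card' (G := centralizer ({z₀} : Set G)) 2
      (by rw [cardC z₀ hz₀]; exact dvd_mul_of_dvd_right h2 r)
    rw [← hI, cnt]
    exact (Nat.card_pos_iff.2 ⟨⟨⟨u, hu⟩⟩, inferInstance⟩).ne'
  have hI_zero : ¬ 2 ∣ k → I = 0 := by
    intro h2
    rw [← hI, cnt, Nat.card_eq_zero]
    refine Or.inl ⟨fun u => h2 ?_⟩
    have h := orderOf_dvd_natCard u.1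
    rw [u.2, cardC z₀ hz₀] at h
    exact ((Nat.prime_two).dvd_mul.1 h).resolve_left fun h' =>
      hr2 ((Nat.prime_dvd_prime_iff_eq Nat.prime_two hr').1 h').symm
  have hsing := le_card_singular hs k (fun Q => by rw [card_centralizer_eq P Q, hC]) hk
  have hn19 : 19 ≤ n := by
    have hne := normalizer_ne_top hG hrG P
    have h := two_mul_card_dvd_factorial hG _ hne
    rw [show (normalizer ((P : Subgroup G) : Set G)).index = n from
      (P.card_eq_index_normalizer).symm.trans hn.symm] at h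
    by_contra hlt
    have : 19 ∣ n.factorial := (hcard ▸ by norm_num : 19 ∣ Nat.card G).trans ((dvd_mul_left _ 2).trans h)
    rw [(by norm_num : Nat.Prime 19).dvd_factorial] at this
    omega
  have hkk : 175560 / (n * (e * r)) = k := by
    rw [← hmul, show n * (e * (r * k)) = n * (e * r) * k by ring, Nat.mul_div_cancel_left]
    refine Nat.pos_of_ne_zero fun h => ?_
    rw [show n * (e * (r * k)) = n * (e * r) * k by ring, h, zero_mul] at hmul
    omega
  have hIn : I ∈ invs c r n k := by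
    by_cases h2 : 2 ∣ k
    · have hk1 : ¬ k % 2 = 1 := by omega
      have hrc : r ∣ c := by
        by_contra hrc
        refine hI_pos h2 ?_
        have h0 : cnt (centralizer ({t} : Set G)) r = 0 := by
          rw [cnt, Nat.card_eq_zero]
          exact Or.inl ⟨fun u => hrc (u.2 ▸ orderOf_dvd_natCard u.1)⟩
        rw [h0, mul_zero] at hpairs
        exact (Nat.mul_eq_zero.1 hpairs).resolve_left (Nat.mul_ne_zero hn0 (by have := hr'.two_le; omega))
      obtain ⟨nn, hnn, hnn1, hnnd, hnnm⟩ :=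
        cnt_eq (H := centralizer ({t} : Set G)) hcd hr2 hrc
      rw [hnn] at hpairs
      have heq : n * I = cnt G 2 * nn := by
        refine Nat.eq_of_mul_eq_mul_right (show 0 < r - 1 by have := hr'.two_le; omega) ?_
        rw [mul_right_comm, hpairs, mul_assoc]
      have hIlt : I < k := by
        haveI := Fintype.ofFinite G
        set C := centralizer ({z₀} : Set G) with hCdef
        let Z : Subgroup C := (zpowers z₀).subgroupOf C
        have hzC : zpowers z₀ ≤ C := zpowers_le.2 (mem_centralizer_singleton_iff.2 rfl)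
        have hZ : Z.index = k := by
          have h := Z.index_mul_card
          rw [Nat.card_congr (subgroupOfEquivOfLe hzC).toEquiv, Nat.card_zpowers, hz₀, cardC z₀ hz₀,
            mul_comm r k] at h
          exact Nat.eq_of_mul_eq_mul_right hr'.pos h
        have hlt : Nat.card {u : C // orderOf u = 2} < Nat.card (C ⧸ Z) := by
          rw [Nat.card_eq_fintype_card, Nat.card_eq_fintype_card]
          refine Fintype.card_lt_of_injective_of_notMem (fun u => ((u.1 : C) : C ⧸ Z)) ?_
            (b := ((1 : C) : C ⧸ Z)) ?_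
          · intro u v huv
            obtain ⟨i, hi⟩ := mem_zpowers_iff.1 (mem_subgroupOf.1 (QuotientGroup.eq.1 huv))
            have hu2 : (u.1 : G) ^ 2 = 1 := by
              have h := pow_orderOf_eq_one (u.1 : G)
              rwa [Subgroup.orderOf_coe, u.2] at h
            have hv2 : (v.1 : G) ^ 2 = 1 := by
              have h := pow_orderOf_eq_one (v.1 : G)
              rwa [Subgroup.orderOf_coe, v.2] at h
            have hv : (v.1 : G) = u.1 * z₀ ^ i := by
              rw [hi]; push_cast; rw [mul_inv_cancel_left]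
            have hcu : Commute (u.1 : G) (z₀ ^ i) :=
              Commute.zpow_right (mem_centralizer_singleton_iff.1 u.1.2 : Commute (u.1 : G) z₀) i
            rw [hv, hcu.mul_pow, hu2, one_mul] at hv2
            have hw : z₀ ^ i = 1 := by
              have hd1 : orderOf (z₀ ^ i) ∣ 2 := orderOf_dvd_of_pow_eq_one hv2
              have hd2 : orderOf (z₀ ^ i) ∣ r := hz₀ ▸ orderOf_dvd_of_mem_zpowers (zpow_mem (mem_zpowers z₀) i)
              exact orderOf_eq_one_iff.1 (Nat.eq_one_of_dvd_coprimes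
                ((Nat.coprime_primes Nat.prime_two hr').2 (Ne.symm hr2)) hd1 hd2)
            refine Subtype.ext (Subtype.ext ?_)
            rw [hv, hw, mul_one]
          · rintro ⟨u, hu⟩
            have hmem : (u.1 : G) ∈ zpowers z₀ := by
              have := mem_subgroupOf.1 (QuotientGroup.eq.1 hu.symm)
              simpa using this
            have hd2 : orderOf (u.1 : G) ∣ r := hz₀ ▸ orderOf_dvd_of_mem_zpowers hmem
            rw [Subgroup.orderOf_coe, u.2] at hd2
            exact hr2 ((Nat.prime_dvd_prime_iff_eq Nat.prime_two hr').1 hd2).symm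
        rw [← Subgroup.index_eq_card, hZ] at hlt
        rwa [← hI, cnt]
      have hIodd : Odd I := hI ▸ odd_involutions (by rw [cardC z₀ hz₀]; exact dvd_mul_of_dvd_right h2 r)
      have hval : 175560 / c * nn / n = I := by
        rw [hN', ← heq, Nat.mul_div_cancel_left _ (Nat.pos_of_ne_zero hn0)]
      have hnn0 : 175560 / c * nn % n = 0 := by rw [hN', ← heq, Nat.mul_mod_right]
      simp only [invs, beq_iff_eq, if_neg hk1, if_pos (Nat.mod_eq_zero_of_dvd hrc), List.mem_map,
        List.mem_filter, Bool.and_eq_true, decide_eq_true_eq]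
      exact ⟨nn, ⟨hnnm, ⟨⟨⟨hnn1, Nat.mod_eq_zero_of_dvd hnnd⟩, hnn0⟩, hval ▸ Nat.odd_iff.1 hIodd⟩,
        hval ▸ hIlt⟩, hval⟩
    · have hk1 : k % 2 = 1 := by omega
      have hI0 := hI_zero h2
      have hrc : ¬ c % r = 0 := by
        intro hrc
        obtain ⟨u, hu⟩ := exists_prime_orderOf_dvd_card' (G := centralizer ({t} : Set G)) r
          (Nat.dvd_of_mod_eq_zero hrc)
        have hpos : 0 < cnt (centralizer ({t} : Set G)) r := by
          rw [cnt]; exact Nat.card_pos_iff.2 ⟨⟨⟨u, hu⟩⟩, inferInstance⟩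
        rw [hI0, mul_zero] at hpairs
        exact Nat.mul_ne_zero hN0 hpos.ne' hpairs.symm
      simp [invs, hk1, hrc, hI0]
  refine ⟨(r, n, k, I), ?_, rfl, ⟨hr', hs, hcount, cardC, inv, hk, ⟨hr', ⟨P, hP, hC⟩, hk, hsing⟩⟩⟩
  simp only [cand, List.mem_flatMap, List.mem_filter, List.mem_map, Bool.and_eq_true, beq_iff_eq,
    decide_eq_true_eq, List.mem_range]
  refine ⟨n, ⟨mem_divs ⟨_, hmul.symm⟩, ?_, hn19⟩, e, ⟨?_, Nat.mod_eq_zero_of_dvd hed, ?_⟩, I, ?_, ?_⟩
  · rw [hn, card_sylow_modEq_one r G, Nat.mod_eq_of_lt hr'.one_lt]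
  · have := Nat.le_of_dvd (by have := hr'.two_le; omega) hed
    have := hr'.two_le
    omega
  · exact Nat.mod_eq_zero_of_dvd ⟨k, by rw [← hmul]; ring⟩
  · rwa [hkk]
  · rw [hkk]

omit [IsSimpleGroup G] hG hconj ht in
theorem fits_of_data {x y : Ent} (hx : Data G x) (hy : Data G y) (hne : y.1 ≠ x.1) (hy2 : y.1 ≠ 2)
    (hx2 : x.1 ≠ 2) : fits x y = true := by
  have hc : compat (proj x) [proj y] = true :=
    compat_of_valid hx.valid (fun z hz => (List.mem_singleton.1 hz) ▸ hy.valid)
      (fun z hz => (List.mem_singleton.1 hz) ▸ hne)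
  simp only [compat, proj, List.all_cons, List.all_nil, Bool.and_true] at hc
  rw [fits, hc, Bool.true_and]
  rw [beq_iff_eq, Bool.eq_iff_iff, beq_iff_eq, beq_iff_eq] at hc
  unfold link
  by_cases hk : x.2.2.1 % y.1 = 0
  swap
  · simp [hk]
  haveI := Fact.mk hx.prime
  haveI := Fact.mk hy.prime
  have hk' := hc.1 hk
  have dx : ∀ z : G, Nat.card (centralizer ({z} : Set G)) ∣ 175560 := fun z =>
    hcard ▸ Subgroup.card_subgroup_dvd_card _
  have one : ∀ {u v : Ent}, Data G u → Data G v → v.1 ≠ 2 → u.2.2.1 % v.1 = 0 →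
      ∃ s, s % v.1 = 1 ∧ u.1 * u.2.2.1 % (s * v.1) = 0 ∧ s ∈ divs ∧
        Nat.card (Pairs G u.1 v.1) = u.2.1 * (u.1 - 1) * (s * (v.1 - 1)) := by
    intro u v hu hv hv2 huv
    haveI := Fact.mk hu.prime
    haveI := Fact.mk hv.prime
    have key : ∀ z : G, orderOf z = u.1 → ∃ s, cnt (centralizer ({z} : Set G)) v.1 = s * (v.1 - 1) ∧
        s % v.1 = 1 ∧ s * v.1 ∣ Nat.card (centralizer ({z} : Set G)) ∧ s ∈ divs := fun z hz =>
      cnt_eq (dx z) hv2 (by rw [hu.card_cent z hz]; exact dvd_mul_of_dvd_right (Nat.dvd_of_mod_eq_zero huv) _)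
    obtain ⟨Q⟩ : Nonempty (Sylow u.1 G) := inferInstance
    obtain ⟨⟨z, hzQ⟩, hz⟩ := exists_prime_orderOf_dvd_card' (G := (Q : Subgroup G)) u.1 (hu.sylow Q).symm.dvd
    rw [Subgroup.orderOf_mk] at hz
    obtain ⟨s, hs, hs1, hsd, hsm⟩ := key z hz
    refine ⟨s, hs1, Nat.mod_eq_zero_of_dvd (hu.card_cent z hz ▸ hsd), hsm, ?_⟩
    rw [← hu.count]
    refine card_pairs u.1 v.1 _ fun w hw => ?_
    rw [← hs]
    -- the centralizers of elements of this order are conjugate
    have gen : ∀ a : G, orderOf a = u.1 → ∃ Q : Sylow u.1 G, zpowers a = Q := by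
      intro a ha
      obtain ⟨Q, hQ⟩ := (IsPGroup.of_card (n := 1) (by rw [Nat.card_zpowers, ha, pow_one]) :
        IsPGroup u.1 (zpowers a)).exists_le_sylow
      exact ⟨Q, eq_of_le_of_card_ge hQ (by rw [hu.sylow Q, Nat.card_zpowers, ha])⟩
    obtain ⟨Q₁, hQ₁⟩ := gen w hw
    obtain ⟨Q₀, hQ₀⟩ := gen z hz
    obtain ⟨g, hg⟩ := MulAction.exists_smul_eq G Q₀ Q₁
    have hz' : zpowers w = zpowers (g * z * g⁻¹) := by
      rw [hQ₁, ← hg, Sylow.coe_subgroup_smul]
      show MulAut.conj g • (Q₀ : Subgroup G) = _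
      rw [← hQ₀]
      exact MonoidHom.map_zpowers (MulAut.conj g).toMonoidHom z
    obtain ⟨eq⟩ := centralizer_conj g z
    rw [cent_eq_of_zpowers hz', ← cnt_congr eq]
  obtain ⟨s, hs1, hsd, hsm, hsp⟩ := one hx hy hy2 hk
  obtain ⟨s', hs1', hsd', hsm', hsp'⟩ := one hy hx hx2 hk'
  rw [card_pairs_comm, hsp'] at hsp
  have heq : x.2.1 * s = y.2.1 * s' := by
    refine Nat.eq_of_mul_eq_mul_right (Nat.mul_pos (show 0 < x.1 - 1 by have := hx.prime.two_le; omega)
      (show 0 < y.1 - 1 by have := hy.prime.two_le; omega)) ?_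
    calc x.2.1 * s * ((x.1 - 1) * (y.1 - 1)) = x.2.1 * (x.1 - 1) * (s * (y.1 - 1)) := by ring
      _ = y.2.1 * (y.1 - 1) * (s' * (x.1 - 1)) := hsp.symm
      _ = _ := by ring
  simp only [Bool.or_eq_true, List.any_eq_true, Bool.and_eq_true, beq_iff_eq]
  exact Or.inr ⟨s, hsm, ⟨hs1, hsd⟩, s', hsm', ⟨hs1', hsd'⟩, heq⟩

end CfsgLib.Sporadic.J1Order175560
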