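import Cfsg.Agent.Lib.Sporadic.J1Order175560.Counting
import Cfsg.Agent.Lib.KnownA.J1Facts
import Cfsg.Agent.S0494
import Cfsg.Prelude.Def_SporadicB

/-!
# A simple group of order `175560` has an involution centralizer of type two times `A5`
-/

set_option autoImplicit false

open scoped Classical Pointwise

set_option maxHeartbeats 1000000

namespace CfsgLib.Sporadic.J1Order175560

open Subgroup CfsgLib.Involution.Order175560 CfsgLib.Involution.TwoGroupLifts CfsgLib.SmallGroups.SimpleTools

variable {G : Type*} [Group G] [Finite G]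

theorem go_elim (hcard : Nat.card G = 175560) (c : ℕ) : ∀ (rs : List ℕ) (acc : List Ent),
    (∀ r ∈ rs, r ≠ 2 ∧ ∃ x ∈ cand c r, x.1 = r ∧ Data G x) → rs.Nodup →
    (∀ y ∈ acc, Data G y ∧ y.1 ∉ rs ∧ y.1 ≠ 2) → (acc.map Prod.fst).Nodup →
    go c (rs.map (cand c)) acc = true →
    ∃ acc', (∀ y ∈ acc', Data G y) ∧ (acc'.map Prod.fst).Nodup ∧ final c acc' = true
  | [], acc, _, _, hacc, hnd, h => ⟨acc, fun y hy => (hacc y hy).1, hnd, h⟩
  | r :: rs, acc, hrs, hnod, hacc, hnd, h => by
    obtain ⟨hr2, x, hx, hxr, hxd⟩ := hrs r List.mem_cons_self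
    rw [List.map_cons, go, List.all_eq_true] at h
    have h' := h x hx
    have hfit : (acc.all fun y => fits x y) = true := List.all_eq_true.2 fun y hy =>
      fits_of_data hcard hxd (hacc y hy).1
        (fun e => (hacc y hy).2.1 (by rw [e, hxr]; exact List.mem_cons_self)) (hacc y hy).2.2 (hxr ▸ hr2)
    rw [hfit, Bool.not_true, Bool.false_or] at h'
    rw [List.nodup_cons] at hnod
    refine go_elim hcard c rs (x :: acc) (fun q hq => hrs q (List.mem_cons_of_mem r hq)) hnod.2 ?_ ?_ h'
    · intro y hy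
      rcases List.mem_cons.1 hy with rfl | hy
      · exact ⟨hxd, hxr ▸ hnod.1, hxr ▸ hr2⟩
      · exact ⟨(hacc y hy).1, fun h => (hacc y hy).2.1 (List.mem_cons_of_mem r h), (hacc y hy).2.2⟩
    · rw [List.map_cons, List.nodup_cons]
      refine ⟨fun hm => ?_, hnd⟩
      obtain ⟨y, hy, he⟩ := List.mem_map.1 hm
      exact (hacc y hy).2.1 (by rw [he, hxr]; exact List.mem_cons_self)

theorem kill_false {acc : List Ent} (hd : ∀ y ∈ acc, Data G y) (hnd : (acc.map Prod.fst).Nodup)
    (hcard : Nat.card G = 175560) {S : List (ℕ × ℕ × ℕ)} (hS : S ∈ (acc.map proj).sublists)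
    (hi : indep S = true) (hsum : 175560 ≤ (S.map fun x => x.2.2).sum) : False := by
  haveI := Fintype.ofFinite G
  rw [List.mem_sublists] at hS
  have hval : ∀ x ∈ S, Valid G x := fun x hx => by
    obtain ⟨y, hy, rfl⟩ := List.mem_map.1 (hS.subset hx)
    exact (hd y hy).valid
  have hnd' : (S.map Prod.fst).Nodup := (hS.map Prod.fst).nodup (by rw [List.map_map]; exact hnd)
  have h := indep_disjoint S hi hval hnd'
  have hlt : Nat.card {g : G // ∃ x ∈ S, x.1 ∣ orderOf g} < Nat.card G := by
    rw [Nat.card_eq_fintype_card, Nat.card_eq_fintype_card]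
    refine Fintype.card_subtype_lt (x := 1) ?_
    rintro ⟨x, hx, h1⟩
    rw [orderOf_one, Nat.dvd_one] at h1
    exact (hval x hx).1.ne_one h1
  omega

theorem case_1320_false {x y : Ent} (hx : Data G x) (hy : Data G y) (ex : x = (3, 2926, 10, 1))
    (ey : y = (5, 2926, 6, 3)) (hcard : Nat.card G = 175560) : False := by
  subst ex ey
  haveI := Fintype.ofFinite G
  haveI : Fact (Nat.Prime 3) := ⟨Nat.prime_three⟩
  obtain ⟨z, hz⟩ := exists_prime_orderOf_dvd_card' (G := G) 3 (by rw [hcard]; norm_num)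
  have hC := hx.card_cent z hz
  have h1 := hx.invol z hz
  simp only at hC h1
  haveI : Fact (Nat.Prime 5) := ⟨by norm_num⟩
  haveI : Fact (Nat.Prime 2) := ⟨Nat.prime_two⟩
  obtain ⟨⟨w, hwC⟩, hw⟩ := exists_prime_orderOf_dvd_card' (G := centralizer ({z} : Set G)) 5 (by rw [hC]; norm_num)
  obtain ⟨⟨u, huC⟩, hu⟩ := exists_prime_orderOf_dvd_card' (G := centralizer ({z} : Set G)) 2 (by rw [hC]; norm_num)
  rw [Subgroup.orderOf_mk] at hw hu
  have hwz : Commute w z := mem_centralizer_singleton_iff.1 hwC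
  have huz : Commute u z := mem_centralizer_singleton_iff.1 huC
  have hwu : Commute w u := by
    obtain ⟨hsub, -⟩ := Nat.card_eq_one_iff_unique.1 h1
    have hc : orderOf (⟨w, hwC⟩ * ⟨u, huC⟩ * (⟨w, hwC⟩)⁻¹ : centralizer ({z} : Set G)) = 2 := by
      rw [← MulAut.conj_apply, MulEquiv.orderOf_eq, Subgroup.orderOf_mk, hu]
    have := congrArg (fun q : {c : centralizer ({z} : Set G) // orderOf c = 2} => (q.1 : G))
      (@Subsingleton.elim _ hsub ⟨_, hc⟩ ⟨⟨u, huC⟩, by rw [Subgroup.orderOf_mk, hu]⟩)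
    exact mul_inv_eq_iff_eq_mul.1 this
  have hzu : orderOf (z * u) = 6 := by
    rw [huz.symm.orderOf_mul_eq_mul_orderOf_of_coprime (by rw [hz, hu]; norm_num), hz, hu]
  have h30 : orderOf (z * u * w) = 30 := by
    rw [(hwz.mul_right hwu).symm.orderOf_mul_eq_mul_orderOf_of_coprime (by rw [hzu, hw]; norm_num), hzu, hw]
  set D := centralizer ({w} : Set G) with hD
  have hDc : Nat.card D = 30 := by have := hy.card_cent w hw; simpa using this
  have h3 : cnt D 2 = 3 := hy.invol w hw
  have hmem : z * u * w ∈ D := mem_centralizer_singleton_iff.2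
    ((hwz.mul_right hwu).mul_right (Commute.refl w)).symm.eq
  haveI : IsCyclic D := isCyclic_of_orderOf_eq_card (⟨z * u * w, hmem⟩ : D)
    (by rw [Subgroup.orderOf_mk, h30, hDc])
  rw [cnt, Nat.card_eq_fintype_card, Fintype.card_subtype,
    IsCyclic.card_orderOf_eq_totient (by rw [← Nat.card_eq_fintype_card, hDc]; norm_num)] at h3
  norm_num at h3

theorem cnt_split (H : Type*) [Group H] [Finite H] :
    Nat.card {h : H // orderOf h = 1 ∨ orderOf h = 2} = 1 + cnt H 2 := by
  haveI := Fintype.ofFinite H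
  rw [Nat.card_eq_fintype_card, Fintype.card_subtype_or_disjoint, cnt, Nat.card_eq_fintype_card]
  · congr 1
    refine Fintype.card_eq_one_iff.2 ⟨⟨1, orderOf_one⟩, fun a => Subtype.ext (orderOf_eq_one_iff.1 a.2)⟩
  · rw [Pi.disjoint_iff]
    intro h
    rw [Prop.disjoint_iff]
    omega

theorem no_four (hcard : Nat.card G = 175560) (h2 : cnt G 2 = 1463) {x3 x5 x7 x11 x19 : Ent}
    (e3 : x3 = (3, 2926, 10, 5)) (e5 : x5 = (5, 2926, 6, 3)) (e7 : x7 = (7, 4180, 1, 0))
    (e11 : x11 = (11, 1596, 1, 0)) (e19 : x19 = (19, 1540, 1, 0)) (h3 : Data G x3) (h5 : Data G x5)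
    (h7 : Data G x7) (h11 : Data G x11) (h19 : Data G x19) : ∀ g : G, orderOf g ≠ 4 := by
  subst e3 e5 e7 e11 e19
  intro g hg
  haveI := Fintype.ofFinite G
  let S : List (ℕ × ℕ × ℕ) := [(5, 6, 70224), (7, 1, 25080), (11, 1, 15960), (19, 1, 27720)]
  have hs : 138984 ≤ Nat.card {g : G // ∃ x ∈ S, x.1 ∣ orderOf g} := by
    have h := indep_disjoint (G := G) S (by decide) (fun x hx => by
      simp only [S, List.mem_cons, List.not_mem_nil, or_false] at hx
      rcases hx with rfl | rfl | rfl | rfl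
      exacts [h5.valid, h7.valid, h11.valid, h19.valid]) (by decide)
    simpa [S] using h
  have hc3 : cnt G 3 = 5852 := h3.count
  have h6 : 29260 ≤ Nat.card {g : G // orderOf g = 6} := by
    have hp := card_pairs (G := G) 3 2 5 h3.invol
    rw [hc3] at hp
    rw [show 29260 = Nat.card (Pairs G 3 2) from hp.symm]
    refine Nat.card_le_card_of_injective (fun p => (⟨p.1.1 * p.1.2, by
      rw [p.2.2.2.orderOf_mul_eq_mul_orderOf_of_coprime (by rw [p.2.1, p.2.2.1]; norm_num), p.2.1, p.2.2.1]⟩ :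
        {g : G // orderOf g = 6})) ?_
    rintro ⟨⟨a, b⟩, ha, hb, hab⟩ ⟨⟨a', b'⟩, ha', hb', hab'⟩ h
    simp only at ha hb hab ha' hb' hab'
    have h' : a * b = a' * b' := congrArg Subtype.val h
    have ha3 : a ^ 3 = 1 := ha ▸ pow_orderOf_eq_one a
    have ha3' : a' ^ 3 = 1 := ha' ▸ pow_orderOf_eq_one a'
    have hb2 : b ^ 2 = 1 := hb ▸ pow_orderOf_eq_one b
    have hb2' : b' ^ 2 = 1 := hb' ▸ pow_orderOf_eq_one b'
    have hbb : b = b' := by
      have := congrArg (· ^ 3) h'
      simp only [hab.mul_pow, hab'.mul_pow, ha3, ha3', one_mul, pow_succ b 2, pow_succ b' 2, hb2, hb2'] at this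
      exact this
    subst hbb
    exact Subtype.ext (Prod.ext (mul_right_cancel h') rfl)
  have hA : Nat.card {g : G // orderOf g = 1 ∨ orderOf g = 2} = 1464 := by rw [cnt_split, h2]
  set A := Finset.univ.filter fun g : G => orderOf g = 1 ∨ orderOf g = 2
  set B := Finset.univ.filter fun g : G => orderOf g = 3
  set C := Finset.univ.filter fun g : G => orderOf g = 6
  set D := Finset.univ.filter fun g : G => ∃ x ∈ S, x.1 ∣ orderOf g
  have eA : A.card = 1464 := by rw [← hA, Nat.card_eq_fintype_card, Fintype.card_subtype]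
  have eB : B.card = 5852 := by rw [← hc3, cnt, Nat.card_eq_fintype_card, Fintype.card_subtype]
  have eC : 29260 ≤ C.card := by rwa [Nat.card_eq_fintype_card, Fintype.card_subtype] at h6
  have eD : 138984 ≤ D.card := by rwa [Nat.card_eq_fintype_card, Fintype.card_subtype] at hs
  have notD : ∀ k, k ∈ [1, 2, 3, 4, 6] → ∀ x : G, orderOf x = k → x ∉ D := by
    intro k hk x hx
    have key : ∀ k ∈ [1, 2, 3, 4, 6], ¬ ∃ y ∈ S, y.1 ∣ k := by decide
    simp only [D, Finset.mem_filter, Finset.mem_univ, true_and, hx]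
    exact key k hk
  have d1 : Disjoint A B := Finset.disjoint_filter.2 fun x _ => by omega
  have d2 : Disjoint (A ∪ B) C := by
    rw [Finset.disjoint_left]
    intro x hx hx'
    simp only [A, B, C, Finset.mem_union, Finset.mem_filter, Finset.mem_univ, true_and] at hx hx'
    omega
  have d3 : Disjoint (A ∪ B ∪ C) D := by
    rw [Finset.disjoint_left]
    intro x hx
    simp only [A, B, C, Finset.mem_union, Finset.mem_filter, Finset.mem_univ, true_and] at hx
    rcases hx with ((h | h) | h) | h <;> exact notD _ (by simp) x h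
  have hg' : g ∉ A ∪ B ∪ C ∪ D := by
    simp only [Finset.mem_union, not_or]
    refine ⟨⟨⟨?_, ?_⟩, ?_⟩, notD 4 (by simp) g hg⟩ <;> simp [A, B, C, hg, -orderOf_eq_one_iff]
  have hlt := Finset.card_lt_univ_of_notMem hg'
  rw [Finset.card_union_of_disjoint d3, Finset.card_union_of_disjoint d2, Finset.card_union_of_disjoint d1,
    ← Nat.card_eq_fintype_card, hcard, eA, eB] at hlt
  omega

theorem quotient_simple (C : Subgroup G) {t : G} (htord : orderOf t = 2) (htC : t ∈ C) (hcomm : ∀ a ∈ C, a * t = t * a)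
    (hc120 : Nat.card C = 120) (c3 : cnt C 3 = 20) (c5 : cnt C 5 = 24)
    (two : ∀ g : G, g ^ 8 = 1 → g * g = 1)
    (cent5 : ∀ x : G, orderOf x = 5 → Nat.card (centralizer ({x} : Set G)) = 30)
    [(zpowers (⟨t, htC⟩ : C)).Normal] :
    IsSimpleGroup (C ⧸ zpowers (⟨t, htC⟩ : C)) := by
  haveI := Fintype.ofFinite G
  haveI : Fact (Nat.Prime 5) := ⟨by norm_num⟩
  set z : C := ⟨t, htC⟩ with hzdef
  have hzo : orderOf z = 2 := by rw [Subgroup.orderOf_mk]; exact htord
  have hzc : ∀ a : C, Commute z a := fun a => Subtype.ext (hcomm a a.2).symm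
  set Z := zpowers z with hZdef
  have hQ : Nat.card (C ⧸ Z) = 60 := by
    have h := Z.card_mul_index
    rw [Nat.card_zpowers, hzo, Subgroup.index_eq_card, hc120] at h
    omega
  let π : C →* C ⧸ Z := QuotientGroup.mk' Z
  haveI : Nontrivial (C ⧸ Z) := Finite.one_lt_card_iff_nontrivial.1 (by omega)
  refine ⟨fun N hN => ?_⟩
  by_contra hne
  rw [not_or] at hne
  set M := N.comap π with hM
  haveI : M.Normal := hN.comap π
  have hzM : z ∈ M := by
    show π z ∈ N
    rw [show π z = 1 from (QuotientGroup.eq_one_iff z).2 (mem_zpowers z)]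
    exact one_mem _
  have hidx : M.index = N.index := index_comap_of_surjective _ (QuotientGroup.mk'_surjective Z)
  have hm := M.card_mul_index
  have hn := N.card_mul_index
  rw [hidx, hc120] at hm
  rw [hQ] at hn
  set m := Nat.card M
  set n := Nat.card N
  have hn1 : 1 < n := (Subgroup.one_lt_card_iff_ne_bot N).2 hne.1
  have hn60 : N.index ≠ 1 := fun h => hne.2 (index_eq_one.1 h)
  have hmn : m = 2 * n := by
    refine Nat.eq_of_mul_eq_mul_right (m := N.index) (Nat.pos_of_ne_zero (fun h => by rw [h, mul_zero] at hn; omega)) ?_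
    rw [hm, mul_assoc, hn]
    all_goals norm_num
  -- an element of order `q` dividing `m` lies in `M`
  have inM : ∀ q : ℕ, q.Prime → ¬ q * q ∣ 120 → q ∣ m → ∀ a : C, orderOf a = q → a ∈ M := by
    intro q hq hq2 hqm a ha
    rw [← QuotientGroup.eq_one_iff (N := M)]
    refine orderOf_eq_one_iff.1 (((Nat.dvd_prime hq).1 ?_).resolve_right fun h => hq2 ?_)
    · exact ha ▸ orderOf_map_dvd (QuotientGroup.mk' M) a
    · have := h ▸ orderOf_dvd_natCard ((a : C ⧸ M))
      rw [← Subgroup.index_eq_card, hidx] at this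
      exact (mul_dvd_mul hqm this).trans (dvd_of_eq hm)
  let P : C → Prop := fun a => a = 1 ∨ (5 ∣ m ∧ orderOf a = 5) ∨ (3 ∣ m ∧ orderOf a = 3)
  have hinj : Nat.card ({a : C // P a} × Bool) ≤ m := by
    refine Nat.card_le_card_of_injective (fun p => (⟨p.1.1 * (if p.2 then z else 1), ?_⟩ : M)) ?_
    · refine mul_mem ?_ (by split_ifs; exacts [hzM, one_mem _])
      rcases p.1.2 with h | ⟨hd5, h⟩ | ⟨hd3, h⟩
      · rw [h]; exact one_mem _
      · exact inM 5 (by norm_num) (by norm_num) hd5 _ h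
      · exact inM 3 (by norm_num) (by norm_num) hd3 _ h
    · rintro ⟨⟨a, ha⟩, i⟩ ⟨⟨b, hb⟩, j⟩ h
      have h' : a * (if i then z else 1) = b * (if j then z else 1) :=
        congrArg (fun q : M => (q : C)) h
      have hodd : ∀ a : C, P a → a ^ 15 = 1 := by
        rintro a (rfl | ⟨-, h⟩ | ⟨-, h⟩)
        · exact one_pow _
        · exact orderOf_dvd_iff_pow_eq_one.1 (by rw [h]; norm_num)
        · exact orderOf_dvd_iff_pow_eq_one.1 (by rw [h]; norm_num)
      have hz15 : z ^ 15 = z := by
        rw [show (15 : ℕ) = 2 * 7 + 1 by norm_num, pow_succ, pow_mul, ← hzo, pow_orderOf_eq_one, one_pow,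
          one_mul]
      have hij : i = j := by
        have h15 := congrArg (· ^ 15) h'
        have hzne : z ≠ 1 := fun e => by rw [e, orderOf_one] at hzo; omega
        cases i <;> cases j <;>
          simp [(hzc a).symm.mul_pow, (hzc b).symm.mul_pow, hodd a ha, hodd b hb, hz15, hzne,
            hzne.symm] at h15 ⊢
      subst hij
      exact Prod.ext (Subtype.ext (mul_right_cancel h')) rfl
  rw [Nat.card_prod, Nat.card_eq_fintype_card (α := Bool), Fintype.card_bool] at hinj
  have hcardF : ∀ q, (Finset.univ.filter fun a : C => orderOf a = q).card = cnt C q := fun q => by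
    rw [cnt, Nat.card_eq_fintype_card, Fintype.card_subtype]
  have hsub : ({1} ∪ (if 5 ∣ m then Finset.univ.filter (fun a : C => orderOf a = 5) else ∅) ∪
      (if 3 ∣ m then Finset.univ.filter (fun a : C => orderOf a = 3) else ∅)) ⊆ Finset.univ.filter P := by
    intro a ha
    simp only [Finset.mem_union, Finset.mem_singleton] at ha
    simp only [Finset.mem_filter, Finset.mem_univ, true_and, P]
    rcases ha with (h | h) | h
    · exact Or.inl h
    · split_ifs at h with h5
      · exact Or.inr (Or.inl ⟨h5, (Finset.mem_filter.1 h).2⟩)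
      · simp at h
    · split_ifs at h with h3
      · exact Or.inr (Or.inr ⟨h3, (Finset.mem_filter.1 h).2⟩)
      · simp at h
  have hle := Finset.card_le_card hsub
  rw [Finset.card_union_of_disjoint, Finset.card_union_of_disjoint] at hle
  rotate_left
  · rw [Finset.disjoint_left]
    intro a ha
    split_ifs <;> simp_all
  · rw [Finset.disjoint_left]
    intro a ha hb
    simp only [Finset.mem_union, Finset.mem_singleton] at ha
    split_ifs at hb with h3
    · have hb3 := (Finset.mem_filter.1 hb).2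
      rcases ha with rfl | ha
      · simp at hb3
      · split_ifs at ha with h5
        · have := (Finset.mem_filter.1 ha).2; omega
        · simp at ha
    · simp at hb
  rw [Finset.card_singleton, apply_ite Finset.card, apply_ite Finset.card, hcardF, hcardF, c3, c5,
    Finset.card_empty] at hle
  have hPc : (Finset.univ.filter P).card = Nat.card {a : C // P a} := by
    rw [← Nat.card_eq_finsetCard]
    exact Nat.card_congr (Equiv.subtypeEquivRight fun a => by simp)
  rw [hPc] at hle
  have hnd' : n ∈ ([2, 3, 4, 5, 6, 10, 12, 15, 20, 30] : List ℕ) := by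
    have h60 : n ∣ 60 := Dvd.intro _ hn
    have hlt : n < 60 := by
      refine lt_of_le_of_ne (Nat.le_of_dvd (by norm_num) h60) fun e => hn60 ?_
      rw [e] at hn; omega
    have key : ∀ n < 60, n ∣ 60 → 1 < n → n ∈ ([2, 3, 4, 5, 6, 10, 12, 15, 20, 30] : List ℕ) := by
      decide +kernel
    exact key n hlt h60 hn1
  have hmv : m = 4 ∨ m = 8 := by
    simp only [List.mem_cons, List.not_mem_nil, or_false] at hnd'
    rcases hnd' with e | e | e | e | e | e | e | e | e | e <;> split_ifs at hle with h5 h3 <;> omega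
  -- a subgroup of order four or eight
  obtain ⟨x, hx⟩ := exists_prime_orderOf_dvd_card' (G := C) 5 (by rw [hc120]; norm_num)
  letI : MulAction (zpowers x) M :=
    MulAction.compHom M ((MulAut.conjNormal : C →* MulAut M).comp (zpowers x).subtype)
  have hfix := (IsPGroup.of_card (p := 5) (n := 1) (by rw [Nat.card_zpowers, hx, pow_one]) :
    IsPGroup 5 (zpowers x)).card_modEq_card_fixedPoints M
  set F := MulAction.fixedPoints (zpowers x) M with hF
  have hfx : ∀ a : M, a ∈ F → Commute x (a : C) := fun a ha => by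
    have h := congrArg (fun q : M => (q : C)) (ha ⟨x, mem_zpowers x⟩)
    exact mul_inv_eq_iff_eq_mul.1 h
  have hz1 : (⟨z, hzM⟩ : M) ≠ 1 := fun e => by
    have := congrArg (fun q : M => (q : C)) e
    simp only [OneMemClass.coe_one] at this
    rw [this, orderOf_one] at hzo
    omega
  obtain ⟨y, hyF, hy1, hyz⟩ : ∃ y : M, y ∈ F ∧ y ≠ 1 ∧ y ≠ ⟨z, hzM⟩ := by
    by_contra h
    push Not at h
    have hsub : F = {1, ⟨z, hzM⟩} := by
      refine Set.Subset.antisymm (fun a ha => ?_) fun a ha g => Subtype.ext ?_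
      · by_cases h1 : a = 1
        · exact Or.inl h1
        · exact Or.inr (h a ha h1)
      · show (g : C) * (a : C) * (g : C)⁻¹ = a
        rcases ha with rfl | rfl
        · simp
        · show (g : C) * z * (g : C)⁻¹ = z
          rw [(hzc g).symm.eq, mul_inv_cancel_right]
    rw [Nat.card_coe_set_eq, hsub, Set.ncard_pair (Ne.symm hz1)] at hfix
    rcases hmv with e | e <;> rw [show Nat.card M = m from rfl, e] at hfix <;> norm_num [Nat.ModEq] at hfix
  have hy8 : ((y : C) : G) ^ 8 = 1 := by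
    have h := orderOf_dvd_natCard y
    have h' : y ^ 8 = 1 := orderOf_dvd_iff_pow_eq_one.1 (h.trans (by
      rcases hmv with e | e <;> rw [show Nat.card M = m from rfl, e] <;> norm_num))
    simpa using congrArg (fun q : M => ((q : C) : G)) h'
  have hyy := two _ hy8
  have htt : t * t = 1 := by rw [← pow_two, ← htord, pow_orderOf_eq_one]
  have hty : t * ((y : C) : G) = (y : C) * t := (hcomm _ (y : C).2).symm
  set V := fourGroup t ((y : C) : G) htt hyy hty
  have hV4 : Nat.card V = 4 := by
    refine card_fourGroup _ _ _ (fun e => by rw [e, orderOf_one] at htord; omega)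
      (fun e => hy1 (Subtype.ext (Subtype.ext e))) (fun e => hyz (Subtype.ext (Subtype.ext e.symm)))
  have hxG : orderOf (x : G) = 5 := by rw [Subgroup.orderOf_coe, hx]
  have hVle : V ≤ centralizer ({(x : G)} : Set G) := by
    intro v hv
    have h1 : Commute t (x : G) := (hcomm _ x.2).symm
    have h2 : Commute ((y : C) : G) (x : G) := (hfx y hyF).symm.map C.subtype
    refine mem_centralizer_singleton_iff.2 ?_
    rcases mem_fourGroup.1 hv with rfl | rfl | rfl | rfl
    exacts [(Commute.one_left _).eq, h1.eq, h2.eq, (h1.mul_left h2).eq]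
  have := Subgroup.card_dvd_of_le hVle
  rw [hV4, cent5 _ hxG] at this
  norm_num at this

theorem exists_centralizer [IsSimpleGroup G] (hcard : Nat.card G = 175560) :
    ∃ t : G, Cfsg.IsTwoCentralInvolution t ∧
      Nonempty (centralizer ({t} : Set G) ≃* Multiplicative (ZMod 2) × alternatingGroup (Fin 5)) := by
  have hG : ¬ IsMulCommutative G := not_comm_of_card (by rw [hcard]; norm_num)
  haveI := Fintype.ofFinite G
  haveI : Fact (Nat.Prime 2) := ⟨Nat.prime_two⟩
  haveI : Fact (Nat.Prime 3) := ⟨Nat.prime_three⟩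
  haveI : Fact (Nat.Prime 5) := ⟨by norm_num⟩
  obtain ⟨T⟩ : Nonempty (Sylow 2 G) := inferInstance
  have hT : Nat.card (T : Subgroup G) = 8 := by
    rw [card_sylow_subgroup (k := 3) (m := 21945) (by rw [hcard]; norm_num) (by norm_num) T]; norm_num
  haveI : Nontrivial (T : Subgroup G) := Finite.one_lt_card_iff_nontrivial.1 (by omega)
  haveI := T.2.center_nontrivial
  obtain ⟨⟨t₁, ht₁⟩, htord⟩ := exists_prime_orderOf_dvd_card' (G := center (T : Subgroup G)) 2 (by
    obtain ⟨i, hi⟩ := (T.2.to_subgroup (center (T : Subgroup G))).exists_card_eq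
    rcases Nat.eq_zero_or_pos i with rfl | h
    · rw [pow_zero] at hi
      have := Finite.one_lt_card_iff_nontrivial.2 (inferInstance : Nontrivial (center (T : Subgroup G)))
      omega
    · rw [hi]; exact dvd_pow_self 2 h.ne')
  rw [Subgroup.orderOf_mk, ← Subgroup.orderOf_coe] at htord
  set t : G := (t₁ : G) with htdef
  have htc : ∀ s ∈ (T : Subgroup G), s * t = t * s := fun s hs =>
    congrArg Subtype.val (mem_center_iff.1 ht₁ ⟨s, hs⟩)
  refine ⟨t, ⟨htord, T, t₁.2, htc⟩, ?_⟩
  have hconj : ∀ s : G, orderOf s = 2 → IsConj s t := fun s hs =>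
    isConj_of_involutions hG T hT hs htord
  set C := centralizer ({t} : Set G) with hCdef
  set c := Nat.card C with hc
  have hN2 : cnt G 2 * c = 175560 := cnt_two hcard hconj htord
  have hcd : c ∣ 175560 := Dvd.intro_left _ hN2
  have h8 : 8 ∣ c := hT ▸ Subgroup.card_dvd_of_le fun s hs => mem_centralizer_singleton_iff.2 (htc s hs)
  have hNc : 175560 / c = cnt G 2 := by rw [← hN2, Nat.mul_div_cancel _ Nat.card_pos]
  have h19 : 19 ≤ 175560 / c := by
    have hne : C ≠ ⊤ := by
      intro h
      have hm : t ∈ center G := mem_center_iff.2 fun g =>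
        mem_centralizer_singleton_iff.1 (show g ∈ C from h ▸ mem_top g)
      rw [center_eq_bot hG, mem_bot] at hm
      rw [hm, orderOf_one] at htord
      omega
    have h := two_mul_card_dvd_factorial hG _ hne
    have hidx : C.index = 175560 / c := by
      rw [← hcard, ← C.card_mul_index, ← hc, Nat.mul_div_cancel_left _ Nat.card_pos]
    by_contra hlt
    have : 19 ∣ C.index.factorial := (hcard ▸ by norm_num : 19 ∣ Nat.card G).trans ((dvd_mul_left _ 2).trans h)
    rw [(by norm_num : Nat.Prime 19).dvd_factorial, hidx] at this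
    omega
  have hgo := List.all_eq_true.1 search c (List.mem_filter.2 ⟨mem_divs hcd, by
    simp only [Bool.and_eq_true, beq_iff_eq, decide_eq_true_eq]
    exact ⟨Nat.mod_eq_zero_of_dvd h8, h19⟩⟩)
  have hr : ∀ r ∈ [3, 5, 7, 11, 19], r ≠ 2 ∧ ∃ x ∈ cand c r, x.1 = r ∧ Data G x := by
    intro r hr
    simp only [List.mem_cons, List.not_mem_nil, or_false] at hr
    rcases hr with rfl | rfl | rfl | rfl | rfl <;>
      refine ⟨by norm_num, ?_⟩ <;>
      first
        | exact @exists_data G _ _ _ hG hcard t hconj htord 3 ⟨by norm_num⟩ (by norm_num) (by norm_num)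
        | exact @exists_data G _ _ _ hG hcard t hconj htord 5 ⟨by norm_num⟩ (by norm_num) (by norm_num)
        | exact @exists_data G _ _ _ hG hcard t hconj htord 7 ⟨by norm_num⟩ (by norm_num) (by norm_num)
        | exact @exists_data G _ _ _ hG hcard t hconj htord 11 ⟨by norm_num⟩ (by norm_num) (by norm_num)
        | exact @exists_data G _ _ _ hG hcard t hconj htord 19 ⟨by norm_num⟩ (by norm_num) (by norm_num)
  obtain ⟨acc, hd, hnd, hfin⟩ := go_elim hcard c _ [] hr (by decide) (by simp) (by simp) hgo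
  simp only [final, Bool.or_eq_true, Bool.and_eq_true, List.any_eq_true, beq_iff_eq, decide_eq_true_eq,
    List.contains_iff_mem] at hfin
  rcases hfin with (⟨S, hS, hi, hsum⟩ | ⟨⟨⟨⟨⟨hc120, m3⟩, m5⟩, m7⟩, m11⟩, m19⟩) | ⟨⟨-, m3⟩, m5⟩
  · exact (kill_false hd hnd hcard hS hi hsum).elim
  swap
  · exact (case_1320_false (hd _ m3) (hd _ m5) rfl rfl hcard).elim
  have h2 : cnt G 2 = 1463 := by rw [← hNc, hc120]
  have h4 := no_four hcard h2 rfl rfl rfl rfl rfl (hd _ m3) (hd _ m5) (hd _ m7) (hd _ m11) (hd _ m19)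
  -- the elements of orders three and five in the centralizer
  have hcnt : ∀ {x : Ent}, Data G x → cnt C x.1 * 1463 = x.2.1 * (x.1 - 1) * x.2.2.2 := by
    intro x hx
    rw [← hx.count, ← card_pairs x.1 2 _ hx.invol, card_pairs_comm, card_pairs 2 x.1 (cnt C x.1) fun s hs => ?_,
      h2, mul_comm]
    obtain ⟨g, hg⟩ := isConj_iff.1 (hconj s hs)
    obtain ⟨eq⟩ := centralizer_conj g s
    rw [hg] at eq
    exact cnt_congr eq x.1
  have c3 : cnt C 3 = 20 := by have := hcnt (hd _ m3); simp only at this; omega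
  have c5 : cnt C 5 = 24 := by have := hcnt (hd _ m5); simp only at this; omega
  -- two-elements are involutions
  have two : ∀ g : G, g ^ 8 = 1 → g * g = 1 := by
    intro g hg
    obtain ⟨i, hi, hgi⟩ := (Nat.dvd_prime_pow Nat.prime_two).1
      (show orderOf g ∣ 2 ^ 3 from orderOf_dvd_of_pow_eq_one hg)
    rcases (show i = 0 ∨ i = 1 ∨ i = 2 ∨ i = 3 by omega) with rfl | rfl | rfl | rfl
    · rw [orderOf_eq_one_iff.1 hgi, one_mul]
    · rw [← pow_two]; exact (show (2 : ℕ) = 2 ^ 1 by norm_num) ▸ hgi ▸ pow_orderOf_eq_one g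
    · exact absurd hgi (h4 g)
    · exact absurd (show orderOf (g ^ 2) = 4 by rw [orderOf_pow, hgi]; norm_num) (h4 _)
  let z : C := ⟨t, mem_centralizer_singleton_iff.2 rfl⟩
  have hzo : orderOf z = 2 := by rw [Subgroup.orderOf_mk]; exact htord
  have hzc : ∀ a : C, Commute z a := fun a =>
    Subtype.ext (mem_centralizer_singleton_iff.1 a.2).symm
  set Z := zpowers z with hZdef
  haveI hZn : Z.Normal := ⟨fun a ha g => by
    obtain ⟨i, rfl⟩ := mem_zpowers_iff.1 ha
    rw [((hzc g).zpow_left i).symm.eq, mul_inv_cancel_right]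
    exact zpow_mem (mem_zpowers z) i⟩
  have hQ : Nat.card (C ⧸ Z) = 60 := by
    have h := Z.card_mul_index
    rw [Nat.card_zpowers, hzo, Subgroup.index_eq_card, ← hc, hc120] at h
    omega
  let π : C →* C ⧸ Z := QuotientGroup.mk' Z
  haveI : Nontrivial (C ⧸ Z) := Finite.one_lt_card_iff_nontrivial.1 (by omega)
  haveI hsimple : IsSimpleGroup (C ⧸ Z) :=
    quotient_simple C htord (mem_centralizer_singleton_iff.2 rfl) (fun a ha => mem_centralizer_singleton_iff.1 ha)
      hc120 c3 c5 two fun x hx => (hd _ m5).card_cent x hx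
  obtain ⟨h⟩ := Cfsg.Agent.S0494.result hQ
  obtain ⟨e⟩ := CfsgLib.Recognition.Zassenhaus.icosa_presented
  let g := e.trans h.symm
  set p := g (PresentedGroup.of 0) with hp
  set q := g (PresentedGroup.of 1) with hq
  have hrels : ∀ w ∈ CfsgLib.Recognition.Zassenhaus.icosaRels,
      PresentedGroup.mk CfsgLib.Recognition.Zassenhaus.icosaRels w = 1 := fun w hw =>
    PresentedGroup.one_of_mem hw
  have hp3 : p ^ 3 = 1 := by
    rw [hp, ← map_pow]
    exact (congrArg g (hrels _ (Or.inl rfl))).trans (map_one g)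
  have hq5 : q ^ 5 = 1 := by
    rw [hq, ← map_pow]
    exact (congrArg g (hrels _ (Or.inr (Or.inl rfl)))).trans (map_one g)
  have hpq : (p * q) ^ 2 = 1 := by
    rw [hp, hq, ← map_mul, ← map_pow]
    exact (congrArg g (hrels _ (Or.inr (Or.inr rfl)))).trans (map_one g)
  have ker : ∀ a : C, π a = 1 → a ^ 2 = 1 := fun a ha => by
    obtain ⟨i, rfl⟩ := mem_zpowers_iff.1 ((QuotientGroup.eq_one_iff a).1 ha)
    rw [← zpow_natCast, ← zpow_mul, mul_comm, zpow_mul, zpow_natCast, ← hzo, pow_orderOf_eq_one, one_zpow]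
  obtain ⟨a₀, ha₀⟩ := QuotientGroup.mk'_surjective Z p
  obtain ⟨b₀, hb₀⟩ := QuotientGroup.mk'_surjective Z q
  set a := a₀ ^ 4 with hadef
  set b := b₀ ^ 6 with hbdef
  have hπa : π a = p := by
    rw [hadef, map_pow, show π a₀ = p from ha₀, pow_succ, hp3, one_mul]
  have hπb : π b = q := by
    rw [hbdef, map_pow, show π b₀ = q from hb₀, pow_succ, hq5, one_mul]
  have ha3 : a ^ 3 = 1 := by
    have h6 := ker (a₀ ^ 3) (by rw [map_pow, show π a₀ = p from ha₀, hp3])
    rw [← pow_mul] at h6
    rw [hadef, ← pow_mul, show 4 * 3 = 3 * 2 * 2 by norm_num, pow_mul, h6, one_pow]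
  have hb5 : b ^ 5 = 1 := by
    have h10 := ker (b₀ ^ 5) (by rw [map_pow, show π b₀ = q from hb₀, hq5])
    rw [← pow_mul] at h10
    rw [hbdef, ← pow_mul, show 6 * 5 = 5 * 2 * 3 by norm_num, pow_mul, h10, one_pow]
  have hab : (a * b) ^ 2 = 1 := by
    have h4' := ker ((a * b) ^ 2) (by rw [map_pow, map_mul, hπa, hπb, hpq])
    have h8' : ((a * b : C) : G) ^ 8 = 1 := by
      have : (a * b) ^ 8 = 1 := by
        rw [show 8 = 2 * 2 * 2 by norm_num, pow_mul, pow_mul, h4', one_pow]
      simpa using congrArg (fun r : C => (r : G)) this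
    rw [pow_two]
    exact Subtype.ext (two _ h8')
  let f : Fin 2 → C := ![a, b]
  have hrel : ∀ w ∈ CfsgLib.Recognition.Zassenhaus.icosaRels, FreeGroup.lift f w = 1 := by
    rintro w (rfl | rfl | rfl) <;> simp [f, ha3, hb5, hab]
  let φ : alternatingGroup (Fin 5) →* C := (PresentedGroup.toGroup hrel).comp e.symm.toMonoidHom
  have hπφ : ∀ y, π (φ (e y)) = g y := by
    intro y
    have : (π.comp ((φ.comp e.toMonoidHom))) = g.toMonoidHom := by
      refine PresentedGroup.ext fun i => ?_
      fin_cases i <;> simp [φ, f, hπa, hπb, hp, hq]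
    exact DFunLike.congr_fun this y
  have hz2 : z * z = 1 := by rw [← pow_two, ← hzo, pow_orderOf_eq_one]
  let Φ : Multiplicative (ZMod 2) × alternatingGroup (Fin 5) →* C :=
    MonoidHom.noncommCoprod (CfsgLib.KnownA.J1Facts.twoHom z hz2) φ fun i y => by
      simp only [CfsgLib.KnownA.J1Facts.twoHom, MonoidHom.coe_mk, OneHom.coe_mk]
      split_ifs
      · exact Commute.one_left _
      · exact hzc _
  have hΦ : Function.Surjective Φ := by
    intro y
    obtain ⟨w, hw⟩ := g.surjective (π y)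
    have hk : π ((φ (e w))⁻¹ * y) = 1 := by rw [map_mul, map_inv, hπφ, hw, inv_mul_cancel]
    obtain ⟨i, hi⟩ := mem_zpowers_iff.1 ((QuotientGroup.eq_one_iff _).1 hk)
    have hi' : y = φ (e w) * z ^ i := by rw [hi, mul_inv_cancel_left]
    refine ⟨(Multiplicative.ofAdd (i : ZMod 2), e w), ?_⟩
    have htw : CfsgLib.KnownA.J1Facts.twoHom z hz2 (Multiplicative.ofAdd (i : ZMod 2)) = z ^ i := by
      rw [show Multiplicative.ofAdd (i : ZMod 2) = (Multiplicative.ofAdd (1 : ZMod 2)) ^ i by
        rw [← ofAdd_zsmul, zsmul_one], map_zpow]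
      simp [CfsgLib.KnownA.J1Facts.twoHom]
    simp only [Φ, MonoidHom.noncommCoprod_apply, htw]
    rw [hi']
    exact ((hzc _).zpow_left i).eq
  refine ⟨(MulEquiv.ofBijective Φ ((Nat.bijective_iff_surjective_and_card _).2 ⟨hΦ, ?_⟩)).symm⟩
  rw [← hc, hc120, Nat.card_prod, nat_card_alternatingGroup, Nat.card_eq_fintype_card]
  simp [Nat.factorial]

end CfsgLib.Sporadic.J1Order175560
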