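import Cfsg.Agent.Lib.Involution.Order175560

/-!
# The arithmetic of a simple group of order `175560`

An entry `(r, n, k, I)` records the number of Sylow `r`-subgroups, the order divided by `r` of their
centralizers and the number of involutions in such a centralizer.
-/

set_option autoImplicit false

namespace CfsgLib.Sporadic.J1Order175560

open CfsgLib.Involution.Order175560

/-- An entry. -/
abbrev Ent := ℕ × ℕ × ℕ × ℕ

/-- The possible numbers of involutions in a centralizer. -/
def invs (c r n k : ℕ) : List ℕ :=
  if k % 2 == 1 then (if c % r == 0 then [] else [0])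
  else if c % r == 0 then
    (divs.filter fun nn => nn % r == 1 && c % (nn * r) == 0 && 175560 / c * nn % n == 0 &&
      175560 / c * nn / n % 2 == 1 && decide (175560 / c * nn / n < k)).map fun nn => 175560 / c * nn / n
  else []

/-- The possible entries at `r` when an involution centralizer has order `c`. -/
def cand (c r : ℕ) : List Ent :=
  (divs.filter fun n => n % r == 1 && decide (19 ≤ n)).flatMap fun n =>
    (((List.range r).filter fun e => (r - 1) % e == 0 && 175560 % (n * (e * r)) == 0)).flatMap fun e =>
      (invs c r n (175560 / (n * (e * r)))).map fun I => (r, n, 175560 / (n * (e * r)), I)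

/-- The pairs of commuting elements of orders `r` and `q` counted from both sides. -/
def link (x y : Ent) : Bool :=
  x.2.2.1 % y.1 != 0 ||
    divs.any fun s => s % y.1 == 1 && x.1 * x.2.2.1 % (s * y.1) == 0 &&
      divs.any fun s' => s' % x.1 == 1 && y.1 * y.2.2.1 % (s' * x.1) == 0 && x.2.1 * s == y.2.1 * s'

/-- Compatibility of two entries. -/
def fits (x y : Ent) : Bool :=
  (x.2.2.1 % y.1 == 0) == (y.2.2.1 % x.1 == 0) && link x y

/-- The entry seen by the count of singular elements. -/
def proj (x : Ent) : ℕ × ℕ × ℕ := (x.1, x.2.2.1, x.2.1 * ((x.1 - 1) * x.2.2.1))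

/-- The terminal test. -/
def final (c : ℕ) (acc : List Ent) : Bool :=
  ((acc.map proj).sublists.any fun S => indep S && decide (175560 ≤ (S.map fun x => x.2.2).sum)) ||
    (c == 120 && acc.contains (3, 2926, 10, 5) && acc.contains (5, 2926, 6, 3) &&
      acc.contains (7, 4180, 1, 0) && acc.contains (11, 1596, 1, 0) && acc.contains (19, 1540, 1, 0)) ||
    (c == 1320 && acc.contains (3, 2926, 10, 1) && acc.contains (5, 2926, 6, 3))

/-- The search. -/
def go (c : ℕ) : List (List Ent) → List Ent → Bool
  | [], acc => final c acc
  | L :: rest, acc => L.all fun x => !(acc.all fun y => fits x y) || go c rest (x :: acc)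

theorem search : ((divs.filter fun c => c % 8 == 0 && decide (19 ≤ 175560 / c)).all fun c =>
    go c ([3, 5, 7, 11, 19].map (cand c)) []) = true := by
  decide +kernel

end CfsgLib.Sporadic.J1Order175560
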